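import Groth.Agent.Lib.Lead.QCQS.ResFunctor

/-! # Base change of `f_*` along an open immersion of the base. -/

universe u
open CategoryTheory Limits AlgebraicGeometry TopologicalSpace Opposite

namespace Groth.Agent.LD.QCQS

variable {X S : Scheme.{u}} (f : X ⟶ S) (V : S.Opens)

/-- the two functors on opens agree. -/
noncomputable def bcFunIso :
    Opens.map (f ∣_ V).base ⋙ (f ⁻¹ᵁ V).ι.opensFunctor ≅ V.ι.opensFunctor ⋙ Opens.map f.base :=
  NatIso.ofComponents (fun W => eqToIso (image_morphismRestrict_preimage f V W)) (fun _ => rfl)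

instance : (Opens.map (f ∣_ V).base ⋙ (f ⁻¹ᵁ V).ι.opensFunctor).IsContinuous
    (Opens.grothendieckTopology V.toScheme) (Opens.grothendieckTopology X) :=
  Functor.isContinuous_comp _ _ _ (Opens.grothendieckTopology (f ⁻¹ᵁ V).toScheme) _

instance : (V.ι.opensFunctor ⋙ Opens.map f.base).IsContinuous
    (Opens.grothendieckTopology V.toScheme) (Opens.grothendieckTopology X) :=
  Functor.isContinuous_comp _ _ _ (Opens.grothendieckTopology S) _

/-- ring map of the left side. -/
noncomputable def φL : V.toScheme.ringCatSheaf ⟶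
    ((V.ι.opensFunctor ⋙ Opens.map f.base).sheafPushforwardContinuous RingCat.{u}
      (Opens.grothendieckTopology V.toScheme) (Opens.grothendieckTopology X)).obj X.ringCatSheaf := by
  exact ψR V ≫ (V.ι.opensFunctor.sheafPushforwardContinuous RingCat.{u}
      (Opens.grothendieckTopology V.toScheme) (Opens.grothendieckTopology S)).map f.toRingCatSheafHom

/-- ring map of the right side. -/
noncomputable def φRt : V.toScheme.ringCatSheaf ⟶
    ((Opens.map (f ∣_ V).base ⋙ (f ⁻¹ᵁ V).ι.opensFunctor).sheafPushforwardContinuous RingCat.{u}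
      (Opens.grothendieckTopology V.toScheme) (Opens.grothendieckTopology X)).obj X.ringCatSheaf := by
  exact (f ∣_ V).toRingCatSheafHom ≫ ((Opens.map (f ∣_ V).base).sheafPushforwardContinuous RingCat.{u}
      (Opens.grothendieckTopology V.toScheme) (Opens.grothendieckTopology (f ⁻¹ᵁ V).toScheme)).map
        (ψR (f ⁻¹ᵁ V))

example : Scheme.Modules.pushforward f ⋙ Scheme.Modules.restrictFunctor V.ι =
    SheafOfModules.pushforward (F := V.ι.opensFunctor ⋙ Opens.map f.base) (φL f V) := rfl

example : Scheme.Modules.restrictFunctor (f ⁻¹ᵁ V).ι ⋙ Scheme.Modules.pushforward (f ∣_ V) =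
    SheafOfModules.pushforward (F := Opens.map (f ∣_ V).base ⋙ (f ⁻¹ᵁ V).ι.opensFunctor)
      (φRt f V) := rfl

lemma φL_app (W : V.toScheme.Opens) (x : Γ(V.toScheme, W)) :
    ((φL f V).hom.app (op W)).hom x = f.app (V.ι ''ᵁ W) ((V.ι.appIso W).inv.hom x) := rfl

lemma φRt_app (W : V.toScheme.Opens) (x : Γ(V.toScheme, W)) :
    ((φRt f V).hom.app (op W)).hom x =
      ((f ⁻¹ᵁ V).ι.appIso ((f ∣_ V) ⁻¹ᵁ W)).inv.hom ((f ∣_ V).app W x) := rfl


lemma φ_eq : φL f V ≫ (Functor.sheafPushforwardContinuousNatTrans (bcFunIso f V).hom RingCat.{u}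
      (Opens.grothendieckTopology V.toScheme) (Opens.grothendieckTopology X)).app X.ringCatSheaf =
    φRt f V := by
  apply Sheaf.hom_ext
  apply NatTrans.ext
  funext W
  apply RingCat.hom_ext
  apply RingHom.ext
  intro x
  obtain ⟨W⟩ := W
  show X.presheaf.map ((bcFunIso f V).hom.app W).op (((φL f V).hom.app (op W)).hom x) =
    ((φRt f V).hom.app (op W)).hom x
  rw [φL_app, φRt_app]
  have h1 := morphismRestrict_app f V W
  have h2 : ((f ⁻¹ᵁ V).ι.appIso ((f ∣_ V) ⁻¹ᵁ W)).inv = 𝟙 _ := by
    rw [Scheme.Opens.ι_appIso]; rfl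
  have h3 : (V.ι.appIso W).inv = 𝟙 _ := by
    rw [Scheme.Opens.ι_appIso]; rfl
  rw [h2, h3, h1]
  rfl


/-- **base change along an open immersion of the base**. -/
noncomputable def baseChangeIso :
    Scheme.Modules.pushforward f ⋙ Scheme.Modules.restrictFunctor V.ι ≅
      Scheme.Modules.restrictFunctor (f ⁻¹ᵁ V).ι ⋙ Scheme.Modules.pushforward (f ∣_ V) := by
  exact SheafOfModules.pushforwardCongr₂ (φL f V) (bcFunIso f V) (φ_eq f V)

end Groth.Agent.LD.QCQS
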