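import Groth.Agent.Lib.Lead.QCQS.AffineBase
import Groth.Agent.Lib.Lead.QCQS.BaseChange
import Groth.Agent.Lib.Lead.EZ.PostcompNat
import Groth.Agent.Lib.Lead.QC.Local

/-! # Quasi-coherence of higher direct images along quasi-compact quasi-separated morphisms. -/

universe u
open CategoryTheory Limits AlgebraicGeometry TopologicalSpace Opposite

namespace Groth.Agent.LD.QCQS

open Groth.Agent.LD.QC Groth.Agent.LD.SC Groth.Agent.LD.EZ

variable {X S : Scheme.{u}} (f : X ⟶ S) [HasInjectiveResolutions X.Modules]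

/-- restriction of `Rⁿf_* M` to an open of the base. -/
theorem nonempty_restrict_Rpush_iso (V : S.Opens) (M : X.Modules) (n : ℕ) :
    haveI := hasInjRes (f ⁻¹ᵁ V).toScheme
    Nonempty ((((Scheme.Modules.pushforward f).rightDerived n).obj M).restrict V.ι ≅
      ((Scheme.Modules.pushforward (f ∣_ V)).rightDerived n).obj (M.restrict (f ⁻¹ᵁ V).ι)) := by
  haveI := hasInjRes (f ⁻¹ᵁ V).toScheme
  haveI : (Scheme.Modules.restrictFunctor V.ι).PreservesHomology :=
    Functor.preservesHomology_of_preservesEpis_and_kernels _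
  let e1 := (rightDerivedPostcompNatIso (Scheme.Modules.pushforward f)
    (Scheme.Modules.restrictFunctor V.ι) n).app M
  let e2 := (rightDerivedIsoOfIso (baseChangeIso f V) n).app M
  let e3 := (rightDerivedCompNatIso (Scheme.Modules.restrictFunctor (f ⁻¹ᵁ V).ι)
    (Scheme.Modules.pushforward (f ∣_ V)) _ (Iso.refl _) n).app M
  exact ⟨e1.symm ≪≫ e2 ≪≫ e3.symm⟩

/-- **S0030**: higher direct images of quasi-coherent modules along a quasi-compact
quasi-separated morphism are quasi-coherent. -/
theorem qc_Rpush [QuasiCompact f] [QuasiSeparated f] (M : X.Modules) [M.IsQuasicoherent] (n : ℕ) :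
    (((Scheme.Modules.pushforward f).rightDerived n).obj M).IsQuasicoherent := by
  refine isQuasicoherent_of_isOpenCover _ (fun V : S.affineOpens => V.1)
    (iSup_affineOpens_eq_top S) (fun V => ?_)
  haveI := hasInjRes (f ⁻¹ᵁ V.1).toScheme
  obtain ⟨e⟩ := nonempty_restrict_Rpush_iso f V.1 M n
  haveI : IsAffine V.1.toScheme := V.2
  haveI : (M.restrict (f ⁻¹ᵁ V.1).ι).IsQuasicoherent := qc_restrict _ M
  exact qc_of_iso e.symm (qc_Rpush_of_isAffine (f ∣_ V.1) _ n)

end Groth.Agent.LD.QCQS
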