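import Groth.Agent.Lib.Lead.QCQS.Flasque

/-! # Restriction along an arbitrary open immersion: exactness and injectives. -/

universe u
open CategoryTheory Limits AlgebraicGeometry TopologicalSpace Opposite

namespace Groth.Agent.LD.QCQS

open Groth.Agent.LD.EZ

variable {U W Y : Scheme.{u}}

/-- restriction along an isomorphism is an equivalence. -/
noncomputable def restrictEquiv (e : U ≅ W) : W.Modules ≌ U.Modules :=
  CategoryTheory.Equivalence.mk (Scheme.Modules.restrictFunctor e.hom) (Scheme.Modules.restrictFunctor e.inv)
    (Scheme.Modules.restrictFunctorId.symm ≪≫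
      Scheme.Modules.restrictFunctorCongr (e.inv_hom_id).symm ≪≫
      Scheme.Modules.restrictFunctorComp e.inv e.hom)
    ((Scheme.Modules.restrictFunctorComp e.hom e.inv).symm ≪≫
      Scheme.Modules.restrictFunctorCongr (e.hom_inv_id) ≪≫
      Scheme.Modules.restrictFunctorId)

variable (j : U ⟶ Y) [IsOpenImmersion j]

/-- factor the restriction along `j` through the restriction to the range of `j`. -/
noncomputable def restrictFactorIso :
    Scheme.Modules.restrictFunctor j ≅
      Scheme.Modules.restrictFunctor j.opensRange.ι ⋙
        Scheme.Modules.restrictFunctor j.isoOpensRange.hom :=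
  Scheme.Modules.restrictFunctorCongr (j.isoOpensRange_hom_ι).symm ≪≫
    Scheme.Modules.restrictFunctorComp j.isoOpensRange.hom j.opensRange.ι

instance restrictFunctor_additive' : (Scheme.Modules.restrictFunctor j).Additive :=
  (Scheme.Modules.restrictAdjunction j).left_adjoint_additive

instance restrictFunctor_preservesFiniteColimits' :
    PreservesFiniteColimits (Scheme.Modules.restrictFunctor j) := by
  haveI : PreservesColimitsOfSize.{0, 0} (Scheme.Modules.restrictFunctor j) :=
    (Scheme.Modules.restrictAdjunction j).leftAdjoint_preservesColimits
  exact PreservesColimitsOfSize.preservesFiniteColimits _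

instance restrictFunctor_preservesFiniteLimits' :
    PreservesFiniteLimits (Scheme.Modules.restrictFunctor j) := by
  haveI : PreservesFiniteLimits (Scheme.Modules.restrictFunctor j.isoOpensRange.hom) :=
    inferInstanceAs (PreservesFiniteLimits (restrictEquiv j.isoOpensRange).functor)
  haveI : PreservesFiniteLimits (Scheme.Modules.restrictFunctor j.opensRange.ι ⋙
        Scheme.Modules.restrictFunctor j.isoOpensRange.hom) := comp_preservesFiniteLimits _ _
  exact preservesFiniteLimits_of_natIso (restrictFactorIso j).symm

instance restrictFunctor_preservesInjectiveObjects' :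
    (Scheme.Modules.restrictFunctor j).PreservesInjectiveObjects := by
  haveI h2 : (Scheme.Modules.restrictFunctor j.isoOpensRange.hom).PreservesInjectiveObjects :=
    preservesInjectiveObjects_equivalence (restrictEquiv j.isoOpensRange)
  haveI h3 : (Scheme.Modules.restrictFunctor j.opensRange.ι ⋙
      Scheme.Modules.restrictFunctor j.isoOpensRange.hom).PreservesInjectiveObjects :=
    preservesInjectiveObjects_comp _ _
  exact @preservesInjectiveObjects_of_iso _ _ _ _ _ _ (restrictFactorIso j).symm h3

end Groth.Agent.LD.QCQS
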