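import Mathlib

/-! # Transfer of `Ext`-vanishing along isomorphisms. -/

universe w v u
open CategoryTheory Abelian

namespace Groth.Agent.LD.QCQS

variable {A : Type u} [Category.{v} A] [Abelian A] [HasExt.{w} A]

lemma subsingleton_ext_of_iso {Z F G : A} (e : F ≅ G) (n : ℕ)
    (h : Subsingleton (Ext.{w} Z F n)) : Subsingleton (Ext.{w} Z G n) := by
  refine ⟨fun x y => ?_⟩
  have hx : ∀ z : Ext.{w} Z G n,
      z = ((z.comp (Ext.mk₀ e.inv) (add_zero n)).comp (Ext.mk₀ e.hom) (add_zero n)) := by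
    intro z
    rw [Ext.comp_assoc_of_third_deg_zero, Ext.mk₀_comp_mk₀, e.inv_hom_id, Ext.comp_mk₀_id]
  rw [hx x, hx y, Subsingleton.elim (x.comp (Ext.mk₀ e.inv) (add_zero n))
    (y.comp (Ext.mk₀ e.inv) (add_zero n))]

lemma subsingleton_H_of_iso {C : Type u} [Category.{v} C] {J : GrothendieckTopology C}
    [HasSheafify J AddCommGrpCat.{w}] [HasExt.{w} (Sheaf J AddCommGrpCat.{w})]
    {F G : Sheaf J AddCommGrpCat.{w}} (e : F ≅ G) (n : ℕ)
    (h : Subsingleton (Sheaf.H F n)) : Subsingleton (Sheaf.H G n) :=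
  subsingleton_ext_of_iso e n h

end Groth.Agent.LD.QCQS
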