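import Groth.Agent.Lib.Lead.SC.RPushQC

/-! # Mayer–Vietoris induction over quasi-compact quasi-separated opens. -/

universe u
open CategoryTheory Limits AlgebraicGeometry TopologicalSpace Opposite

namespace Groth.Agent.LD.QCQS

open Groth.Agent.LD.SC

variable {X : Scheme.{u}} (P : X.Opens → Prop)
  (h_mv : ∀ O W : X.Opens, P O → P W → P (O ⊓ W) → P (O ⊔ W))

include h_mv in
/-- Mayer–Vietoris induction for a class of opens closed under intersection. -/
theorem mv_finset_sup (hbot : P ⊥) (𝒜 : X.Opens → Prop) (h𝒜 : ∀ W, 𝒜 W → P W)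
    (hinf : ∀ W W', 𝒜 W → 𝒜 W' → 𝒜 (W ⊓ W')) :
    ∀ (k : ℕ) (s : Finset X.Opens), s.card ≤ k → (∀ W ∈ s, 𝒜 W) → P (s.sup id) := by
  classical
  intro k
  induction k with
  | zero =>
    intro s hs _
    obtain rfl : s = ∅ := Finset.card_eq_zero.mp (Nat.le_zero.mp hs)
    rw [Finset.sup_empty]
    exact hbot
  | succ k ih =>
    intro s hs hs𝒜
    rcases s.eq_empty_or_nonempty with rfl | ⟨U, hUs⟩
    · rw [Finset.sup_empty]
      exact hbot
    have hins : insert U (s.erase U) = s := Finset.insert_erase hUs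
    have hcard : (s.erase U).card ≤ k := by
      rw [Finset.card_erase_of_mem hUs]; omega
    have hU𝒜 : 𝒜 U := hs𝒜 U hUs
    have hsup : s.sup id = (s.erase U).sup id ⊔ U := by
      rw [← hins, Finset.sup_insert, hins, sup_comm]; rfl
    rw [hsup]
    apply h_mv
    · exact ih (s.erase U) hcard (fun W hW => hs𝒜 W (Finset.mem_of_mem_erase hW))
    · exact h𝒜 U hU𝒜
    · have hinter : (s.erase U).sup id ⊓ U = ((s.erase U).image (· ⊓ U)).sup id := by
        rw [Finset.sup_inf_distrib_right, Finset.sup_image]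
        rfl
      rw [hinter]
      apply ih _ (Finset.card_image_le.trans hcard)
      intro W hW
      obtain ⟨W', hW', rfl⟩ := Finset.mem_image.mp hW
      exact hinf _ _ (hs𝒜 W' (Finset.mem_of_mem_erase hW')) hU𝒜

variable (h_aff : ∀ U : X.Opens, IsAffineOpen U → P U)

include h_mv h_aff in
/-- quasi-compact opens inside an affine open. -/
theorem mv_of_le_affine {U V : X.Opens} (hU : IsAffineOpen U) (hVU : V ≤ U)
    (hV : IsCompact (V : Set X)) : P V := by
  obtain ⟨t, ht, rfl⟩ := exists_finset_basicOpen_sup_eq hU hVU hV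
  refine mv_finset_sup P h_mv (h_aff ⊥ (isAffineOpen_bot X))
    (fun W => ∃ f : Γ(X, U), W = X.basicOpen f) ?_ ?_ t.card t le_rfl ht
  · rintro W ⟨f, rfl⟩
    exact h_aff _ (hU.basicOpen f)
  · rintro W W' ⟨f, rfl⟩ ⟨f', rfl⟩
    exact ⟨f * f', (X.basicOpen_mul f f').symm⟩

include h_mv h_aff in
/-- **Mayer–Vietoris induction**: a property of opens which holds for affine opens and
satisfies the Mayer–Vietoris principle holds for every finite union of affine opens with
quasi-compact pairwise intersections. -/
theorem mv_induction_finset (s : Finset X.Opens) (hs : ∀ U ∈ s, IsAffineOpen U)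
    (hc : ∀ U ∈ s, ∀ U' ∈ s, IsCompact ((U ⊓ U' : X.Opens) : Set X)) : P (s.sup id) := by
  classical
  induction s using Finset.induction_on with
  | empty =>
    rw [Finset.sup_empty]
    exact h_aff ⊥ (isAffineOpen_bot X)
  | insert U s' hU ih =>
    have hUaff : IsAffineOpen U := hs U (Finset.mem_insert_self _ _)
    have hcomp : IsCompact ((U ⊓ s'.sup id : X.Opens) : Set X) := by
      rw [Finset.sup_inf_distrib_left]
      rw [Opens.coe_finset_sup, Finset.sup_set_eq_biUnion]
      apply Finset.isCompact_biUnion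
      intro W hW
      exact hc U (Finset.mem_insert_self _ _) W (Finset.mem_insert_of_mem hW)
    rw [Finset.sup_insert, sup_comm]
    apply h_mv
    · exact ih (fun W hW => hs W (Finset.mem_insert_of_mem hW))
        (fun W hW W' hW' => hc W (Finset.mem_insert_of_mem hW) W' (Finset.mem_insert_of_mem hW'))
    · exact h_aff U hUaff
    · rw [inf_comm]
      exact mv_of_le_affine P h_mv h_aff hUaff inf_le_left hcomp

include h_mv h_aff in
/-- **Mayer–Vietoris induction** for quasi-compact quasi-separated opens. -/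
theorem mv_induction (O : X.Opens) (hO : IsCompact (O : Set X))
    (hqs : IsQuasiSeparated (O : Set X)) : P O := by
  obtain ⟨s, hs, rfl⟩ := exists_finset_affine_sup_eq O hO
  have hsO : ∀ U ∈ s, U ≤ s.sup id := fun U hU => Finset.le_sup (f := id) hU
  exact mv_induction_finset P h_mv h_aff s hs (fun U hU U' hU' =>
    hqs U U' (hsO U hU) U.2 (hs U hU).isCompact (hsO U' hU') U'.2 (hs U' hU').isCompact)

end Groth.Agent.LD.QCQS
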