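import Groth.Agent.Lib.Lead.QCQS.MVStep
import Groth.Agent.Lib.Lead.QCQS.Induction
import Groth.Agent.Lib.Lead.SC.MapResNat
import Groth.Agent.Lib.Lead.SC.Affine
import Groth.Agent.Lib.Lead.RP.LemmaA
import Groth.Agent.Lib.Lead.QC.Push
import Groth.Agent.Lib.Lead.QC.SubExtRestrict

/-! # Base case: `RⁿG_U M` for `U.ι ≫ f` an affine morphism. -/

universe u
open CategoryTheory Limits AlgebraicGeometry TopologicalSpace Opposite

namespace Groth.Agent.LD.QCQS

open Groth.Agent.LD.QC Groth.Agent.LD.SC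

/-- `Y.Modules` has injective resolutions. -/
theorem hasInjRes (Y : Scheme.{u}) : HasInjectiveResolutions Y.Modules := by
  haveI := Groth.Agent.H1.sheafOfModules_isGrothendieckAbelian
    (Opens.grothendieckTopology Y) Y.ringCatSheaf
  haveI : EnoughInjectives Y.Modules :=
    inferInstanceAs (EnoughInjectives (SheafOfModules.{u} Y.ringCatSheaf))
  infer_instance

lemma qc_of_isZero {X : Scheme.{u}} {Z : X.Modules} (hZ : IsZero Z) (M : X.Modules)
    (hM : M.IsQuasicoherent) : Z.IsQuasicoherent :=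
  qc_of_iso (IsZero.iso (isZero_kernel_of_mono (𝟙 M)) hZ) (qc_kernel (𝟙 M) hM hM)

variable {X S : Scheme.{u}} (f : X ⟶ S) [HasInjectiveResolutions X.Modules]

/-- higher direct images along an affine morphism of a quasi-coherent module vanish (module
version). -/
theorem isZero_Rpush_of_isAffineHom {Y T : Scheme.{u}} (g : Y ⟶ T) [IsAffineHom g]
    [HasInjectiveResolutions Y.Modules] (N : Y.Modules) [N.IsQuasicoherent] (i : ℕ) (hi : 0 < i) :
    IsZero (((Scheme.Modules.pushforward g).rightDerived i).obj N) := by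
  obtain ⟨e⟩ := Groth.Agent.LD.RP.nonempty_toAb_Rpush_iso g N i
  apply Groth.Agent.LD.RP.isZero_of_isZero_τ
  refine IsZero.of_iso ?_ e
  obtain ⟨p, rfl⟩ : ∃ p, i = p + 1 := ⟨i - 1, by omega⟩
  exact isZero_rightDerived_push g.base {V : T.Opens | IsAffineOpen V}
    (Scheme.isBasis_affineOpens T) 0
    (fun V hV j _ => subsingleton_ext_of_isAffineOpen N j (g ⁻¹ᵁ V)
      (IsAffineOpen.preimage hV g)) p (Nat.zero_le _)

/-- **base case**. -/
theorem qcAll_of_isAffineHom (U : X.Opens) [IsAffineHom (U.ι ≫ f)] (M : X.Modules)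
    [M.IsQuasicoherent] : QCAll f U M := by
  intro n
  haveI := hasInjRes U.toScheme
  haveI hN : (M.restrict U.ι).IsQuasicoherent := qc_restrict U.ι M
  let e := rightDerivedCompNatIso (Scheme.Modules.restrictFunctor U.ι)
    (Scheme.Modules.pushforward (U.ι ≫ f)) (G f U) (Iso.refl _) n
  refine qc_of_iso (e.app M) ?_
  change (((Scheme.Modules.pushforward (U.ι ≫ f)).rightDerived n).obj (M.restrict U.ι)).IsQuasicoherent
  cases n with
  | zero =>
    refine qc_of_iso ((Functor.rightDerivedZeroIsoSelf _).app _).symm ?_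
    exact qc_pushforward (U.ι ≫ f) (M.restrict U.ι)
  | succ k =>
    exact qc_of_isZero (isZero_Rpush_of_isAffineHom (U.ι ≫ f) _ (k + 1) (Nat.succ_pos k)) _
      (qc_pushforward (U.ι ≫ f) (M.restrict U.ι))

end Groth.Agent.LD.QCQS
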