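import Mathlib
import Groth.Agent.Lib.Lead.EZ.SchemeRestr
import Groth.Agent.Lib.Lead.EZ.HZshSub

/-! # Injective `𝒪_X`-modules are flasque. -/

universe u
open CategoryTheory Limits AlgebraicGeometry TopologicalSpace Opposite

namespace Groth.Agent.LD.QCQS

open Groth.Agent.LD.EZ

variable {X : Scheme.{u}} (U : X.Opens)

/-- extension by zero of modules along the inclusion of an open subscheme. -/
noncomputable def ezS : U.toScheme.Modules ⥤ X.Modules :=
  (Scheme.Modules.overEquiv U).inverse ⋙ ezModSh X.ringCatSheaf U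

/-- `j_! ⊣ j^*`. -/
noncomputable def ezSAdj : ezS U ⊣ Scheme.Modules.restrictFunctor U.ι :=
  ((Scheme.Modules.overEquiv U).symm.toAdjunction.comp (ezModShAdj X.ringCatSheaf U)).ofNatIsoRight
    (Scheme.Modules.overFunctorEquiv U)

lemma mono_ezSAdj_counit_app (M : X.Modules) : Mono ((ezSAdj U).counit.app M) := by
  have h1 : (ezSAdj U).counit.app M =
      (ezS U).map ((Scheme.Modules.overFunctorEquiv U).inv.app M) ≫
        (ezModSh X.ringCatSheaf U).map ((Scheme.Modules.overEquiv U).unitInv.app _) ≫
          (ezModShAdj X.ringCatSheaf U).counit.app M := by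
    simp [ezSAdj, ezS]
    rfl
  rw [h1]
  have h3 : Mono ((ezModShAdj X.ringCatSheaf U).counit.app M) :=
    mono_ezModShAdj_counit_app X.ringCatSheaf U (fun V => ⟨fun a b => Subsingleton.elim _ _⟩) M
  haveI h4 : IsIso ((ezS U).map ((Scheme.Modules.overFunctorEquiv U).inv.app M)) := inferInstance
  haveI h5 : IsIso ((ezModSh X.ringCatSheaf U).map
          ((Scheme.Modules.overEquiv U).unitInv.app
            ((SheafOfModules.overFunctor X.ringCatSheaf U).obj M))) := inferInstance
  exact mono_comp' (@IsIso.mono_of_iso _ _ _ _ _ h4) (mono_comp' (@IsIso.mono_of_iso _ _ _ _ _ h5) h3)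


/-- for an injective module `I`, the unit `I ⟶ j_* j^* I` is a split epimorphism. -/
theorem exists_retraction (I : X.Modules) [Injective I] :
    ∃ k : (Scheme.Modules.pushforward U.ι).obj ((Scheme.Modules.restrictFunctor U.ι).obj I) ⟶ I,
      k ≫ (Scheme.Modules.restrictAdjunction U.ι).unit.app I = 𝟙 _ :=
  haveI := mono_ezSAdj_counit_app U
    ((Scheme.Modules.pushforward U.ι).obj ((Scheme.Modules.restrictFunctor U.ι).obj I))
  unit_comp_eq_id_of_mono_counit (ezSAdj U) (Scheme.Modules.restrictAdjunction U.ι) I

/-- **injective modules are flasque**. -/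
theorem surjective_map_of_injective (I : X.Modules) [Injective I] {U V : X.Opens} (h : U ≤ V) :
    Function.Surjective (I.presheaf.map (homOfLE h).op) := by
  obtain ⟨k, hk⟩ := exists_retraction U I
  have e : U.ι ''ᵁ (U.ι ⁻¹ᵁ V) = U := by
    ext x
    constructor
    · rintro ⟨y, -, rfl⟩
      exact y.2
    · intro hx
      exact ⟨⟨x, hx⟩, h hx, rfl⟩
  intro s
  let s' : Γ((Scheme.Modules.pushforward U.ι).obj ((Scheme.Modules.restrictFunctor U.ι).obj I), V) :=
    I.presheaf.map (eqToHom e).op s
  refine ⟨k.app V s', ?_⟩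
  have h1 := congr($(congr(Scheme.Modules.Hom.app $hk V)) s')
  rw [Scheme.Modules.Hom.comp_app, Scheme.Modules.restrictAdjunction_unit_app_app] at h1
  rw [Scheme.Modules.Hom.id_app, ConcreteCategory.id_apply, ConcreteCategory.comp_apply] at h1
  have h2 : I.presheaf.map (homOfLE h).op =
      I.presheaf.map (homOfLE (U.ι.image_preimage_le V)).op ≫ I.presheaf.map (eqToHom e.symm).op := by
    rw [← Functor.map_comp]
    rfl
  rw [h2, ConcreteCategory.comp_apply]
  erw [h1]
  change (I.presheaf.map (eqToHom e).op ≫ I.presheaf.map (eqToHom e.symm).op) s = s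
  rw [← Functor.map_comp, ← op_comp, eqToHom_trans, eqToHom_refl, op_id,
    CategoryTheory.Functor.map_id, ConcreteCategory.id_apply]


instance restrictFunctor_additive : (Scheme.Modules.restrictFunctor U.ι).Additive :=
  (Scheme.Modules.restrictAdjunction U.ι).left_adjoint_additive

instance restrictFunctor_preservesFiniteLimits :
    PreservesFiniteLimits (Scheme.Modules.restrictFunctor U.ι) := by
  haveI : PreservesLimitsOfSize.{0, 0} (Scheme.Modules.restrictFunctor U.ι) :=
    (ezSAdj U).rightAdjoint_preservesLimits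
  exact PreservesLimitsOfSize.preservesFiniteLimits _

instance restrictFunctor_preservesFiniteColimits :
    PreservesFiniteColimits (Scheme.Modules.restrictFunctor U.ι) := by
  haveI : PreservesColimitsOfSize.{0, 0} (Scheme.Modules.restrictFunctor U.ι) :=
    (Scheme.Modules.restrictAdjunction U.ι).leftAdjoint_preservesColimits
  exact PreservesColimitsOfSize.preservesFiniteColimits _

end Groth.Agent.LD.QCQS
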