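import Groth.Agent.Lib.Lead.QCQS.ResFunctor
import Groth.Agent.Lib.Lead.QCQS.Flasque
import Groth.Agent.Lib.Lead.EZ.DerivedIso

/-! # `G_⊤ ≅ f_*`. -/

universe u
open CategoryTheory Limits AlgebraicGeometry TopologicalSpace Opposite

namespace Groth.Agent.LD.QCQS

variable {X S : Scheme.{u}} (f : X ⟶ S)

lemma isIso_map_of_eq (M : X.Modules) {U V : X.Opens} (h : U ≤ V) (h' : V ≤ U) :
    IsIso (M.presheaf.map (homOfLE h).op) :=
  ⟨⟨M.presheaf.map (homOfLE h').op, by
    rw [← Functor.map_comp, ← M.presheaf.map_id]; rfl, by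
    rw [← Functor.map_comp, ← M.presheaf.map_id]; rfl⟩⟩

instance isIso_unit_top : IsIso (Scheme.Modules.restrictAdjunction (⊤ : X.Opens).ι).unit := by
  haveI : ∀ M : X.Modules, IsIso ((Scheme.Modules.restrictAdjunction (⊤ : X.Opens).ι).unit.app M) := by
    intro M
    rw [Scheme.Modules.Hom.isIso_iff_isIso_app]
    intro U
    rw [Scheme.Modules.restrictAdjunction_unit_app_app]
    apply isIso_map_of_eq
    intro x hx
    exact ⟨⟨x, trivial⟩, hx, rfl⟩
  exact NatIso.isIso_of_isIso_app _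

/-- `G_⊤ ≅ f_*`. -/
noncomputable def GTopIso : G f ⊤ ≅ Scheme.Modules.pushforward f :=
  Functor.isoWhiskerLeft (Scheme.Modules.restrictFunctor (⊤ : X.Opens).ι)
      (Scheme.Modules.pushforwardComp (⊤ : X.Opens).ι f).symm ≪≫
    (Functor.associator _ _ _).symm ≪≫
    Functor.isoWhiskerRight (asIso (Scheme.Modules.restrictAdjunction (⊤ : X.Opens).ι).unit).symm
      (Scheme.Modules.pushforward f) ≪≫
    Functor.leftUnitor _

end Groth.Agent.LD.QCQS
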