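import Groth.Agent.Lib.Lead.QCQS.Base
import Groth.Agent.Lib.Lead.QCQS.Top

/-! # Quasi-coherence of higher direct images over an affine base. -/

universe u
open CategoryTheory Limits AlgebraicGeometry TopologicalSpace Opposite

namespace Groth.Agent.LD.QCQS

open Groth.Agent.LD.QC Groth.Agent.LD.SC

variable {X S : Scheme.{u}} (f : X ⟶ S) [HasInjectiveResolutions X.Modules]

theorem qcAll_of_isCompact [IsAffine S] (M : X.Modules) [M.IsQuasicoherent] (O : X.Opens)
    (hO : IsCompact (O : Set X)) (hqs : IsQuasiSeparated (O : Set X)) : QCAll f O M := by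
  refine mv_induction (fun O => QCAll f O M) (fun O W h1 h2 h3 => qcAll_sup f O W M h1 h2 h3)
    ?_ O hO hqs
  intro U hU
  haveI : IsAffine U.toScheme := hU
  exact qcAll_of_isAffineHom f U M

/-- **quasi-coherence of `Rⁿf_*`** for `f` quasi-compact quasi-separated with affine target. -/
theorem qc_Rpush_of_isAffine [QuasiCompact f] [QuasiSeparated f] [IsAffine S]
    (M : X.Modules) [M.IsQuasicoherent] (n : ℕ) :
    (((Scheme.Modules.pushforward f).rightDerived n).obj M).IsQuasicoherent := by
  haveI : CompactSpace X := QuasiCompact.compactSpace_of_compactSpace f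
  haveI : QuasiSeparatedSpace X := quasiSeparatedSpace_of_quasiSeparated f
  have h := qcAll_of_isCompact f M ⊤ isCompact_univ
    (isQuasiSeparated_univ_iff.mpr inferInstance) n
  exact qc_of_iso ((Groth.Agent.LD.EZ.rightDerivedIsoOfIso (GTopIso f) n).app M) h

end Groth.Agent.LD.QCQS
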