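import Groth.Agent.Lib.Lead.QCQS.Main
import Groth.Agent.Lib.Lead.QCQS.RestrictOI
import Groth.Prelude.Def_LocCohZ

/-! # Quasi-coherence of the local cohomology sheaves `ℋ^q_Z(M)`. -/

universe u
open CategoryTheory Limits AlgebraicGeometry TopologicalSpace Opposite

namespace Groth.Agent.LD.QCQS

open Groth.Agent.LD.QC Groth.Agent.LD.SC Groth.Agent.LD.SC.FunSES

variable {U Y : Scheme.{u}} (j : U ⟶ Y) [IsOpenImmersion j]

/-- `Γ_Z ⟶ id`. -/
noncomputable def αZ : DCoh.gammaZ j ⟶ 𝟭 Y.Modules where
  app F := kernel.ι ((Scheme.Modules.restrictAdjunction j).unit.app F)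
  naturality F G φ := by
    dsimp only [DCoh.gammaZ]
    exact kernel.lift_ι _ _ _

/-- `j_* j^*`. -/
noncomputable abbrev G₃Z : Y.Modules ⥤ Y.Modules :=
  Scheme.Modules.restrictFunctor j ⋙ Scheme.Modules.pushforward j

/-- `id ⟶ j_* j^*`. -/
noncomputable def βZ : 𝟭 Y.Modules ⟶ G₃Z j := (Scheme.Modules.restrictAdjunction j).unit

lemma wZ : αZ j ≫ βZ j = 0 := by
  ext F : 2
  exact kernel.condition _

lemma epi_βZ_app (I : Y.Modules) [Injective I] : Epi ((βZ j).app I) := by
  apply epi_of_sections Y.ringCatSheaf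
  intro V
  obtain ⟨V⟩ := V
  change Function.Surjective (((Scheme.Modules.restrictAdjunction j).unit.app I).app V)
  rw [Scheme.Modules.restrictAdjunction_unit_app_app]
  exact surjective_map_of_injective I _

lemma shortExact_Z (I : Y.Modules) (hI : Injective I) :
    (ShortComplex.mk ((αZ j).app I) ((βZ j).app I) (app_comp_app _ _ (wZ j) I)).ShortExact := by
  haveI := hI
  haveI : Mono ((αZ j).app I) :=
    inferInstanceAs (Mono (kernel.ι ((Scheme.Modules.restrictAdjunction j).unit.app I)))
  haveI : Epi ((βZ j).app I) := epi_βZ_app j I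
  exact { exact := ShortComplex.exact_of_f_is_kernel _ (kernelIsKernel _) }


variable [HasInjectiveResolutions Y.Modules]

lemma qc_rightDerived_id (M : Y.Modules) (hM : M.IsQuasicoherent) (k : ℕ) :
    (((𝟭 Y.Modules).rightDerived k).obj M).IsQuasicoherent := by
  cases k with
  | zero => exact qc_of_iso ((Functor.rightDerivedZeroIsoSelf (𝟭 Y.Modules)).app M).symm hM
  | succ k => exact qc_of_isZero (isZero_rightDerived_succ_of_exact (𝟭 Y.Modules) k M) M hM

lemma qc_rightDerived_G₃Z [QuasiCompact j] (M : Y.Modules) (hM : M.IsQuasicoherent) (k : ℕ) :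
    (((G₃Z j).rightDerived k).obj M).IsQuasicoherent := by
  haveI := hasInjRes U
  haveI := hM
  haveI : (M.restrict j).IsQuasicoherent := qc_restrict j M
  let e := rightDerivedCompNatIso (Scheme.Modules.restrictFunctor j)
    (Scheme.Modules.pushforward j) (G₃Z j) (Iso.refl _) k
  exact qc_of_iso (e.app M) (qc_Rpush j (M.restrict j) k)

/-- **S6030**: the local cohomology sheaves of a quasi-coherent module with supports in the
complement of a quasi-compact open are quasi-coherent. -/
theorem qc_HZshM [QuasiCompact j] (M : Y.Modules) (hM : M.IsQuasicoherent) (q : ℕ) :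
    ((LocCohZ.HZshM j q).obj M).IsQuasicoherent := by
  have hαβ := shortExact_Z j
  cases q with
  | zero =>
    have hex := exact₂ (αZ j) (βZ j) (wZ j) hαβ M 0
    haveI := mono_rα_zero (αZ j) (βZ j) (wZ j) hαβ M
    have hk := hex.fIsKernel
    have e := IsLimit.conePointUniqueUpToIso hk
      (kernelIsKernel ((NatTrans.rightDerived (βZ j) 0).app M))
    exact qc_of_iso e.symm (qc_kernel _ (qc_rightDerived_id M hM 0) (qc_rightDerived_G₃Z j M hM 0))
  | succ k =>
    exact qc_of_exact5 _ _ _ _ _ _ _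
      (exact₃ (αZ j) (βZ j) (wZ j) hαβ M k)
      (exact₁ (αZ j) (βZ j) (wZ j) hαβ M k)
      (exact₂ (αZ j) (βZ j) (wZ j) hαβ M (k + 1))
      (qc_rightDerived_id M hM k) (qc_rightDerived_G₃Z j M hM k)
      (qc_rightDerived_id M hM (k + 1)) (qc_rightDerived_G₃Z j M hM (k + 1))

end Groth.Agent.LD.QCQS
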