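import Mathlib
import Groth.Agent.Lib.Lead.SC.FunLES

/-! # Objectwise biproduct of two functors and its right derived functors. -/

universe v v' u u'
open CategoryTheory Limits

namespace Groth.Agent.LD.QCQS

section
variable {A : Type u} [Category.{v} A] {B : Type u'} [Category.{v'} B] [Preadditive B]
  [HasBinaryBiproducts B]

/-- objectwise biproduct of two functors. -/
noncomputable def biprodF (F G : A ⥤ B) : A ⥤ B where
  obj M := F.obj M ⊞ G.obj M
  map φ := biprod.map (F.map φ) (G.map φ)
  map_id M := by ext <;> simp
  map_comp φ ψ := by ext <;> simp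

variable (F G : A ⥤ B)

noncomputable def biprodF.inl : F ⟶ biprodF F G where
  app M := biprod.inl
  naturality _ _ φ := by simp [biprodF]

noncomputable def biprodF.inr : G ⟶ biprodF F G where
  app M := biprod.inr
  naturality _ _ φ := by simp [biprodF]

noncomputable def biprodF.fst : biprodF F G ⟶ F where
  app M := biprod.fst
  naturality _ _ φ := by simp [biprodF]

noncomputable def biprodF.snd : biprodF F G ⟶ G where
  app M := biprod.snd
  naturality _ _ φ := by simp [biprodF]

lemma biprodF.inl_fst : biprodF.inl F G ≫ biprodF.fst F G = 𝟙 F := by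
  ext M; exact biprod.inl_fst

lemma biprodF.inr_snd : biprodF.inr F G ≫ biprodF.snd F G = 𝟙 G := by
  ext M; exact biprod.inr_snd

lemma biprodF.inl_snd : biprodF.inl F G ≫ biprodF.snd F G = 0 := by
  ext M; exact biprod.inl_snd

instance [Preadditive A] [F.Additive] [G.Additive] : (biprodF F G).Additive where
  map_add {M N φ ψ} := by
    dsimp only [biprodF]
    rw [Functor.map_add, Functor.map_add, biprod.map_eq, biprod.map_eq, biprod.map_eq]
    simp only [Preadditive.add_comp, Preadditive.comp_add]
    abel

end

section Derived

variable {A : Type u} [Category.{v} A] [Abelian A] [HasInjectiveResolutions A]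
  {B : Type u'} [Category.{v'} B] [Abelian B] (F G : A ⥤ B) [F.Additive] [G.Additive]

open Groth.Agent.LD.SC.FunSES

lemma biprodF.shortExact_app (M : A) :
    (ShortComplex.mk ((biprodF.inl F G).app M) ((biprodF.snd F G).app M)
      (app_comp_app _ _ (biprodF.inl_snd F G) M)).ShortExact :=
  (ShortComplex.Splitting.ofHasBinaryBiproduct (F.obj M) (G.obj M)).shortExact

/-- `0 → RⁿF M → Rⁿ(F ⊞ G) M → RⁿG M → 0` is short exact. -/
theorem biprodF.shortExact_rightDerived (M : A) (n : ℕ) :
    (ShortComplex.mk ((NatTrans.rightDerived (biprodF.inl F G) n).app M)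
      ((NatTrans.rightDerived (biprodF.snd F G) n).app M)
      (rα_rβ _ _ (biprodF.inl_snd F G) M n)).ShortExact := by
  have hex := exact₂ (biprodF.inl F G) (biprodF.snd F G) (biprodF.inl_snd F G)
    (fun I _ => biprodF.shortExact_app F G I) M n
  have h1 : (NatTrans.rightDerived (biprodF.inl F G) n).app M ≫
      (NatTrans.rightDerived (biprodF.fst F G) n).app M = 𝟙 _ := by
    rw [← NatTrans.comp_app, ← NatTrans.rightDerived_comp, biprodF.inl_fst,
      NatTrans.rightDerived_id]
    rfl
  have h2 : (NatTrans.rightDerived (biprodF.inr F G) n).app M ≫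
      (NatTrans.rightDerived (biprodF.snd F G) n).app M = 𝟙 _ := by
    rw [← NatTrans.comp_app, ← NatTrans.rightDerived_comp, biprodF.inr_snd,
      NatTrans.rightDerived_id]
    rfl
  exact { exact := hex
          mono_f := mono_of_mono_fac h1
          epi_g := epi_of_epi_fac h2 }

end Derived

end Groth.Agent.LD.QCQS
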