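import Mathlib
import Groth.Agent.Lib.Lead.MS.PushLeftAdj
import Groth.Agent.Lib.Lead.SC.FunSES

/-! # Sectionwise criteria for (short) exactness of sheaves of abelian groups / modules. -/

universe u
open CategoryTheory Limits Opposite

namespace Groth.Agent.LD.QCQS

variable {C : Type u} [SmallCategory C] {J : GrothendieckTopology C}

/-- exactness of abelian sheaves can be checked on sections. -/
theorem exact_of_sections_ab (S : ShortComplex (Sheaf J AddCommGrpCat.{u}))
    (h : ∀ (U : Cᵒᵖ) (x : S.X₂.obj.obj U), S.g.hom.app U x = 0 → ∃ y, S.f.hom.app U y = x) :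
    S.Exact := by
  let P : ShortComplex (Cᵒᵖ ⥤ AddCommGrpCat.{u}) := S.map (sheafToPresheaf J AddCommGrpCat.{u})
  have hP : P.Exact := by
    rw [ShortComplex.exact_iff_isZero_homology, Functor.isZero_iff]
    intro U
    refine IsZero.of_iso ?_ (P.mapHomologyIso ((evaluation _ _).obj U)).symm
    rw [← ShortComplex.exact_iff_isZero_homology, ShortComplex.ab_exact_iff]
    intro x hx
    exact h U x hx
  haveI : PreservesFiniteLimits (presheafToSheaf J AddCommGrpCat.{u}) := inferInstance
  haveI : PreservesFiniteColimits (presheafToSheaf J AddCommGrpCat.{u}) := inferInstance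
  have h2 : (P.map (presheafToSheaf J AddCommGrpCat.{u})).Exact := hP.map _
  let e : sheafToPresheaf J AddCommGrpCat.{u} ⋙ presheafToSheaf J AddCommGrpCat.{u} ≅ 𝟭 _ :=
    asIso (sheafificationAdjunction J AddCommGrpCat.{u}).counit
  have e2 : P.map (presheafToSheaf J AddCommGrpCat.{u}) ≅ S :=
    (S.mapNatIso e : S.map (sheafToPresheaf J AddCommGrpCat.{u} ⋙ presheafToSheaf J AddCommGrpCat.{u}) ≅
      S.map (𝟭 _))
  exact ShortComplex.exact_of_iso e2 h2


variable (R : Sheaf J RingCat.{u})

/-- short exactness of sheaves of modules can be checked on sections. -/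
theorem shortExact_of_sections (S : ShortComplex (SheafOfModules.{u} R))
    (h1 : ∀ U, Function.Injective (S.f.val.app U))
    (h2 : ∀ (U : Cᵒᵖ) (x : S.X₂.val.obj U), S.g.val.app U x = 0 → ∃ y, S.f.val.app U y = x)
    (h3 : ∀ U, Function.Surjective (S.g.val.app U)) : S.ShortExact := by
  haveI : PreservesFiniteColimits (SheafOfModules.toSheaf.{u} R) :=
    (PreservesColimitsOfSize.preservesFiniteColimits (SheafOfModules.toSheaf.{u} R) :
      PreservesFiniteColimits (SheafOfModules.toSheaf.{u} R))
  have hex : S.Exact := by
    refine (ShortComplex.exact_map_iff_of_faithful S (SheafOfModules.toSheaf.{u} R)).1 ?_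
    apply exact_of_sections_ab
    intro U x hx
    exact h2 U x hx
  have hm : Mono S.f := by
    apply (SheafOfModules.toSheaf.{u} R).mono_of_mono_map
    haveI : Mono ((SheafOfModules.toSheaf.{u} R).map S.f).hom := by
      apply @NatTrans.mono_of_mono_app _ _ _ _ _ _ _ ?_
      intro U
      rw [AddCommGrpCat.mono_iff_injective]
      exact h1 U
    exact Sheaf.Hom.mono_of_presheaf_mono _ _ _
  have he : Epi S.g := by
    apply (SheafOfModules.toSheaf.{u} R).epi_of_epi_map
    apply (Sheaf.isLocallySurjective_iff_epi' (φ := (SheafOfModules.toSheaf.{u} R).map S.g)).mp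
    apply Presheaf.isLocallySurjective_of_surjective
    intro U
    exact h3 U
  exact { exact := hex }


/-- a morphism of sheaves of modules which is surjective on sections is an epimorphism. -/
theorem epi_of_sections {M N : SheafOfModules.{u} R} (g : M ⟶ N)
    (h : ∀ U, Function.Surjective (g.val.app U)) : Epi g := by
  apply (SheafOfModules.toSheaf.{u} R).epi_of_epi_map
  apply (Sheaf.isLocallySurjective_iff_epi' (φ := (SheafOfModules.toSheaf.{u} R).map g)).mp
  apply Presheaf.isLocallySurjective_of_surjective
  intro U
  exact h U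

end Groth.Agent.LD.QCQS
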