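import Groth.Agent.Lib.Lead.QCQS.ResFunctor
import Groth.Agent.Lib.Lead.QCQS.Flasque
import Groth.Agent.Lib.Lead.QCQS.SectExact
import Groth.Agent.Lib.Lead.QCQS.BiprodF
import Groth.Agent.Lib.Lead.QC.Extend

/-! # The relative Mayer–Vietoris sequence for the functors `G_O`. -/

universe u
open CategoryTheory Limits AlgebraicGeometry TopologicalSpace Opposite

namespace Groth.Agent.LD.QCQS

open Groth.Agent.LD.QC

variable {X S : Scheme.{u}} (f : X ⟶ S)

lemma Fn_obj_eq (O : X.Opens) (V : S.Opens) : (Fn f O).obj V = O ⊓ f ⁻¹ᵁ V := by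
  ext x
  constructor
  · rintro ⟨y, hy, rfl⟩
    exact ⟨y.2, hy⟩
  · rintro ⟨hx, hxV⟩
    exact ⟨⟨x, hx⟩, hxV, rfl⟩

lemma Fn_sup_le (O' W : X.Opens) (V : S.Opens) :
    (Fn f (O' ⊔ W)).obj V ≤ (Fn f O').obj V ⊔ (Fn f W).obj V := by
  rw [Fn_obj_eq f O' V, Fn_obj_eq f W V, Fn_obj_eq f (O' ⊔ W) V, inf_sup_right]

lemma Fn_le_inf (O' W : X.Opens) (V : S.Opens) :
    (Fn f O').obj V ⊓ (Fn f W).obj V ≤ (Fn f (O' ⊓ W)).obj V := by
  rw [Fn_obj_eq f O' V, Fn_obj_eq f W V, Fn_obj_eq f (O' ⊓ W) V]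
  rintro x ⟨⟨h1, h2⟩, ⟨h3, -⟩⟩
  exact ⟨⟨h1, h3⟩, h2⟩

/-- short exactness in `X.Modules` can be checked on sections. -/
theorem shortExact_of_app (T : ShortComplex S.Modules)
    (h1 : ∀ V : S.Opens, Function.Injective (T.f.app V))
    (h2 : ∀ (V : S.Opens) (x : Γ(T.X₂, V)), T.g.app V x = 0 → ∃ y, T.f.app V y = x)
    (h3 : ∀ V : S.Opens, Function.Surjective (T.g.app V)) : T.ShortExact :=
  shortExact_of_sections S.ringCatSheaf T (fun V => h1 V.unop) (fun V x hx => h2 V.unop x hx)
    (fun V => h3 V.unop)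

variable (O' W : X.Opens)

/-- the middle term of Mayer–Vietoris. -/
noncomputable abbrev G₂ : X.Modules ⥤ S.Modules := biprodF (G f O') (G f W)

/-- `G_{O' ⊔ W} ⟶ G_{O'} ⊞ G_W`. -/
noncomputable def αMV : G f (O' ⊔ W) ⟶ G₂ f O' W where
  app M := biprod.lift ((resG f le_sup_left).app M) ((resG f le_sup_right).app M)
  naturality M N φ := by
    change (G f (O' ⊔ W)).map φ ≫
        biprod.lift ((resG f le_sup_left).app N) ((resG f le_sup_right).app N) =
      biprod.lift ((resG f le_sup_left).app M) ((resG f le_sup_right).app M) ≫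
        biprod.map ((G f O').map φ) ((G f W).map φ)
    apply biprod.hom_ext
    · rw [Category.assoc, biprod.lift_fst, Category.assoc, biprod.map_fst, biprod.lift_fst_assoc]
      exact (resG f le_sup_left).naturality φ
    · rw [Category.assoc, biprod.lift_snd, Category.assoc, biprod.map_snd, biprod.lift_snd_assoc]
      exact (resG f le_sup_right).naturality φ

/-- `G_{O'} ⊞ G_W ⟶ G_{O' ⊓ W}`, the difference of the restrictions. -/
noncomputable def βMV : G₂ f O' W ⟶ G f (O' ⊓ W) where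
  app M := biprod.fst ≫ (resG f inf_le_left).app M - biprod.snd ≫ (resG f inf_le_right).app M
  naturality M N φ := by
    change biprod.map ((G f O').map φ) ((G f W).map φ) ≫
        (biprod.fst ≫ (resG f inf_le_left).app N - biprod.snd ≫ (resG f inf_le_right).app N) =
      (biprod.fst ≫ (resG f inf_le_left).app M - biprod.snd ≫ (resG f inf_le_right).app M) ≫
        (G f (O' ⊓ W)).map φ
    rw [Preadditive.comp_sub, Preadditive.sub_comp, biprod.map_fst_assoc, biprod.map_snd_assoc,
      Category.assoc, Category.assoc]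
    congr 2
    · exact (resG f inf_le_left).naturality φ
    · exact (resG f inf_le_right).naturality φ

lemma wMV : αMV f O' W ≫ βMV f O' W = 0 := by
  ext M : 2
  change biprod.lift ((resG f le_sup_left).app M) ((resG f le_sup_right).app M) ≫
    (biprod.fst ≫ (resG f inf_le_left).app M - biprod.snd ≫ (resG f inf_le_right).app M) = 0
  rw [Preadditive.comp_sub, biprod.lift_fst_assoc, biprod.lift_snd_assoc, ← NatTrans.comp_app,
    ← NatTrans.comp_app, resG_comp, resG_comp, sub_self]


section Elements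

variable {f O' W}
variable (M : X.Modules) (V : S.Opens)

/-- first projection on sections. -/
noncomputable abbrev p₁ : Γ((G₂ f O' W).obj M, V) ⟶ Γ((G f O').obj M, V) :=
  (biprod.fst : (G f O').obj M ⊞ (G f W).obj M ⟶ (G f O').obj M).app V

/-- second projection on sections. -/
noncomputable abbrev p₂ : Γ((G₂ f O' W).obj M, V) ⟶ Γ((G f W).obj M, V) :=
  (biprod.snd : (G f O').obj M ⊞ (G f W).obj M ⟶ (G f W).obj M).app V

/-- first inclusion on sections. -/
noncomputable abbrev i₁ : Γ((G f O').obj M, V) ⟶ Γ((G₂ f O' W).obj M, V) :=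
  (biprod.inl : (G f O').obj M ⟶ (G f O').obj M ⊞ (G f W).obj M).app V

/-- second inclusion on sections. -/
noncomputable abbrev i₂ : Γ((G f W).obj M, V) ⟶ Γ((G₂ f O' W).obj M, V) :=
  (biprod.inr : (G f W).obj M ⟶ (G f O').obj M ⊞ (G f W).obj M).app V

lemma p₁_i₁ (a : Γ((G f O').obj M, V)) : p₁ M V (i₁ (W := W) M V a) = a := by
  have h := congr(Scheme.Modules.Hom.app
    $(biprod.inl_fst (X := (G f O').obj M) (Y := (G f W).obj M)) V)
  rw [Scheme.Modules.Hom.comp_app] at h
  exact congr($h a)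

lemma p₂_i₁ (a : Γ((G f O').obj M, V)) : p₂ M V (i₁ (W := W) M V a) = 0 := by
  have h := congr(Scheme.Modules.Hom.app
    $(biprod.inl_snd (X := (G f O').obj M) (Y := (G f W).obj M)) V)
  rw [Scheme.Modules.Hom.comp_app] at h
  exact congr($h a)

lemma total_apply (y : Γ((G₂ f O' W).obj M, V)) :
    i₁ M V (p₁ M V y) + i₂ M V (p₂ M V y) = y := by
  have h := congr(Scheme.Modules.Hom.app
    $(biprod.total (X := (G f O').obj M) (Y := (G f W).obj M)) V)
  rw [Scheme.Modules.Hom.add_app, Scheme.Modules.Hom.comp_app, Scheme.Modules.Hom.comp_app] at h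
  exact congr($h y)

lemma ext_apply {y y' : Γ((G₂ f O' W).obj M, V)} (h1 : p₁ M V y = p₁ M V y')
    (h2 : p₂ M V y = p₂ M V y') : y = y' := by
  rw [← total_apply M V y, ← total_apply M V y', h1, h2]

lemma p₁_α (x : Γ((G f (O' ⊔ W)).obj M, V)) :
    p₁ M V (((αMV f O' W).app M).app V x) =
      M.presheaf.map (homOfLE (Fn_obj_le f le_sup_left V)).op x := by
  have h : (αMV f O' W).app M ≫
      (biprod.fst : (G f O').obj M ⊞ (G f W).obj M ⟶ (G f O').obj M) =
      (resG f le_sup_left).app M := biprod.lift_fst _ _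
  have h' := congr(Scheme.Modules.Hom.app $h V)
  rw [Scheme.Modules.Hom.comp_app, resG_app_app] at h'
  exact congr($h' x)

lemma p₂_α (x : Γ((G f (O' ⊔ W)).obj M, V)) :
    p₂ M V (((αMV f O' W).app M).app V x) =
      M.presheaf.map (homOfLE (Fn_obj_le f le_sup_right V)).op x := by
  have h : (αMV f O' W).app M ≫
      (biprod.snd : (G f O').obj M ⊞ (G f W).obj M ⟶ (G f W).obj M) =
      (resG f le_sup_right).app M := biprod.lift_snd _ _
  have h' := congr(Scheme.Modules.Hom.app $h V)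
  rw [Scheme.Modules.Hom.comp_app, resG_app_app] at h'
  exact congr($h' x)

lemma β_apply (y : Γ((G₂ f O' W).obj M, V)) :
    ((βMV f O' W).app M).app V y =
      M.presheaf.map (homOfLE (Fn_obj_le f (inf_le_left : O' ⊓ W ≤ O') V)).op (p₁ M V y) -
        M.presheaf.map (homOfLE (Fn_obj_le f (inf_le_right : O' ⊓ W ≤ W) V)).op (p₂ M V y) := by
  have h : (βMV f O' W).app M =
      (biprod.fst : (G f O').obj M ⊞ (G f W).obj M ⟶ (G f O').obj M) ≫ (resG f (inf_le_left : O' ⊓ W ≤ O')).app M -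
      (biprod.snd : (G f O').obj M ⊞ (G f W).obj M ⟶ (G f W).obj M) ≫ (resG f (inf_le_right : O' ⊓ W ≤ W)).app M :=
    rfl
  have h' := (congr(Scheme.Modules.Hom.app $h V)).trans (Scheme.Modules.Hom.sub_app (U := V) _ _)
  have e1 : Scheme.Modules.Hom.app ((biprod.fst : (G f O').obj M ⊞ (G f W).obj M ⟶ (G f O').obj M) ≫
      (resG f (inf_le_left : O' ⊓ W ≤ O')).app M) V = p₁ (f := f) (O' := O') (W := W) M V ≫
        M.presheaf.map (homOfLE (Fn_obj_le f (inf_le_left : O' ⊓ W ≤ O') V)).op :=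
    Scheme.Modules.Hom.comp_app (U := V) _ _
  have e2 : Scheme.Modules.Hom.app ((biprod.snd : (G f O').obj M ⊞ (G f W).obj M ⟶ (G f W).obj M) ≫
      (resG f (inf_le_right : O' ⊓ W ≤ W)).app M) V = p₂ (f := f) (O' := O') (W := W) M V ≫
        M.presheaf.map (homOfLE (Fn_obj_le f (inf_le_right : O' ⊓ W ≤ W) V)).op :=
    Scheme.Modules.Hom.comp_app (U := V) _ _
  rw [e1, e2] at h'
  exact congr($h' y)

end Elements


open Groth.Agent.LD.SC.FunSES in
/-- **Mayer–Vietoris**: the sequence `0 → G_{O'⊔W} I → G_{O'} I ⊞ G_W I → G_{O'⊓W} I → 0` is short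
exact for `I` injective. -/
theorem shortExact_MV (I : X.Modules) (hI : Injective I) :
    (ShortComplex.mk ((αMV f O' W).app I) ((βMV f O' W).app I)
      (app_comp_app _ _ (wMV f O' W) I)).ShortExact := by
  haveI := hI
  apply shortExact_of_app
  · intro V
    rw [injective_iff_map_eq_zero]
    intro x hx
    change ((αMV f O' W).app I).app V x = 0 at hx
    have h1 := p₁_α I V x
    have h2 := p₂_α I V x
    rw [hx, map_zero] at h1 h2
    refine section_ext_of_cover2 I (Fn_obj_le f le_sup_left V) (Fn_obj_le f le_sup_right V)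
      (Fn_sup_le f O' W V) x 0 ?_ ?_
    · exact h1.symm.trans (map_zero _).symm
    · exact h2.symm.trans (map_zero _).symm
  · intro V y hy
    change ((βMV f O' W).app I).app V y = 0 at hy
    rw [β_apply] at hy
    replace hy := sub_eq_zero.mp hy
    obtain ⟨z, hz1, hz2⟩ := glue2 I (S := (Fn f O').obj V) (V := (Fn f W).obj V)
      (p₁ I V y) (p₂ I V y) (by
        have e := congr(I.presheaf.map (homOfLE (Fn_le_inf f O' W V)).op $hy)
        rw [res_res, res_res] at e
        exact e)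
    refine ⟨I.presheaf.map (homOfLE (Fn_sup_le f O' W V)).op z, ?_⟩
    change ((αMV f O' W).app I).app V _ = y
    apply ext_apply
    · rw [p₁_α, res_res]
      exact hz1
    · rw [p₂_α, res_res]
      exact hz2
  · intro V z
    obtain ⟨a, ha⟩ := surjective_map_of_injective I
      (Fn_obj_le f (inf_le_left : O' ⊓ W ≤ O') V) z
    refine ⟨i₁ I V a, ?_⟩
    change ((βMV f O' W).app I).app V _ = z
    rw [β_apply, p₁_i₁, p₂_i₁]
    refine Eq.trans ?_ ha
    refine (congrArg (fun t => I.presheaf.map (homOfLE (Fn_obj_le f (inf_le_left : O' ⊓ W ≤ O') V)).op a - t)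
      (map_zero (I.presheaf.map (homOfLE (Fn_obj_le f (inf_le_right : O' ⊓ W ≤ W) V)).op).hom)).trans ?_
    exact sub_zero _

end Groth.Agent.LD.QCQS
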