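import Mathlib
import Groth.Agent.Lib.Lead.QC.Ext

/-! # A five-term lemma for properties closed under kernels, cokernels and extensions. -/

universe v u
open CategoryTheory Limits

namespace Groth.Agent.LD.QCQS

section Abstract
variable {𝒜 : Type u} [Category.{v} 𝒜] [Abelian 𝒜]

theorem prop_of_exact5 (P : 𝒜 → Prop)
    (hker : ∀ {M N : 𝒜} (φ : M ⟶ N), P M → P N → P (kernel φ))
    (hcoker : ∀ {M N : 𝒜} (φ : M ⟶ N), P M → P N → P (cokernel φ))
    (hext : ∀ (S : ShortComplex 𝒜), S.ShortExact → P S.X₁ → P S.X₃ → P S.X₂)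
    {A B C D E : 𝒜} (a : A ⟶ B) (b : B ⟶ C) (c : C ⟶ D) (d : D ⟶ E)
    (wab : a ≫ b = 0) (wbc : b ≫ c = 0) (wcd : c ≫ d = 0)
    (hB : (ShortComplex.mk a b wab).Exact) (hC : (ShortComplex.mk b c wbc).Exact)
    (hD : (ShortComplex.mk c d wcd).Exact)
    (pA : P A) (pB : P B) (pD : P D) (pE : P E) : P C := by
  let b' : cokernel a ⟶ C := cokernel.desc a b wab
  let c' : C ⟶ kernel d := kernel.lift d c wcd
  haveI : Mono b' := hB.mono_cokernelDesc
  haveI : Epi c' := hD.epi_kernelLift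
  have w1 : b' ≫ c = 0 := by
    rw [← cancel_epi (cokernel.π a), cokernel.π_desc_assoc, wbc, comp_zero]
  have w2 : b' ≫ c' = 0 := by
    rw [← cancel_mono (kernel.ι d), Category.assoc, kernel.lift_ι, w1, zero_comp]
  have h1 : (ShortComplex.mk b' c w1).Exact := by
    let φ : ShortComplex.mk b c wbc ⟶ ShortComplex.mk b' c w1 :=
      { τ₁ := cokernel.π a
        τ₂ := 𝟙 _
        τ₃ := 𝟙 _
        comm₁₂ := by simp [b']
        comm₂₃ := by simp }
    haveI : Epi φ.τ₁ := inferInstanceAs (Epi (cokernel.π a))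
    haveI : IsIso φ.τ₂ := inferInstanceAs (IsIso (𝟙 _))
    haveI : Mono φ.τ₃ := inferInstanceAs (Mono (𝟙 _))
    exact (ShortComplex.exact_iff_of_epi_of_isIso_of_mono φ).1 hC
  have h2 : (ShortComplex.mk b' c' w2).Exact := by
    let φ : ShortComplex.mk b' c' w2 ⟶ ShortComplex.mk b' c w1 :=
      { τ₁ := 𝟙 _
        τ₂ := 𝟙 _
        τ₃ := kernel.ι d
        comm₁₂ := by simp
        comm₂₃ := by simp [c'] }
    haveI : Epi φ.τ₁ := inferInstanceAs (Epi (𝟙 _))
    haveI : IsIso φ.τ₂ := inferInstanceAs (IsIso (𝟙 _))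
    haveI : Mono φ.τ₃ := inferInstanceAs (Mono (kernel.ι d))
    exact (ShortComplex.exact_iff_of_epi_of_isIso_of_mono φ).2 h1
  exact hext (ShortComplex.mk b' c' w2) { exact := h2 } (hcoker a pA pB) (hker d pD pE)

end Abstract

open AlgebraicGeometry Groth.Agent.LD.QC

/-- in an exact sequence `A → B → C → D → E` of `𝒪_X`-modules with `A, B, D, E` quasi-coherent,
`C` is quasi-coherent. -/
theorem qc_of_exact5 {X : Scheme.{u}} {A B C D E : X.Modules} (a : A ⟶ B) (b : B ⟶ C) (c : C ⟶ D)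
    (d : D ⟶ E) (wab : a ≫ b = 0) (wbc : b ≫ c = 0) (wcd : c ≫ d = 0)
    (hB : (ShortComplex.mk a b wab).Exact) (hC : (ShortComplex.mk b c wbc).Exact)
    (hD : (ShortComplex.mk c d wcd).Exact)
    (pA : A.IsQuasicoherent) (pB : B.IsQuasicoherent) (pD : D.IsQuasicoherent)
    (pE : E.IsQuasicoherent) : C.IsQuasicoherent :=
  prop_of_exact5 (fun M : X.Modules => M.IsQuasicoherent) (fun φ hM hN => qc_kernel φ hM hN)
    (fun φ hM hN => qc_cokernel φ hM hN) (fun S hS h1 h3 => qc_of_shortExact S hS h1 h3)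
    a b c d wab wbc wcd hB hC hD pA pB pD pE

end Groth.Agent.LD.QCQS
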