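import Groth.Agent.Lib.Lead.QCQS.MV
import Groth.Agent.Lib.Lead.QCQS.Five

/-! # The Mayer–Vietoris step for quasi-coherence of `RⁿG_O`. -/

universe u
open CategoryTheory Limits AlgebraicGeometry TopologicalSpace Opposite

namespace Groth.Agent.LD.QCQS

open Groth.Agent.LD.QC Groth.Agent.LD.SC.FunSES

variable {X S : Scheme.{u}} (f : X ⟶ S) [HasInjectiveResolutions X.Modules]

/-- quasi-coherence of all `RⁿG_O M`. -/
def QCAll (O : X.Opens) (M : X.Modules) : Prop :=
  ∀ n : ℕ, (((G f O).rightDerived n).obj M).IsQuasicoherent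

variable (O' W : X.Opens) (M : X.Modules)

lemma qc_rightDerived_G₂ (h1 : QCAll f O' M) (h2 : QCAll f W M) (n : ℕ) :
    (((G₂ f O' W).rightDerived n).obj M).IsQuasicoherent :=
  qc_of_shortExact _ (biprodF.shortExact_rightDerived (G f O') (G f W) M n) (h1 n) (h2 n)

theorem qcAll_sup (h1 : QCAll f O' M) (h2 : QCAll f W M) (h3 : QCAll f (O' ⊓ W) M) :
    QCAll f (O' ⊔ W) M := by
  intro n
  have hαβ := shortExact_MV f O' W
  cases n with
  | zero =>
    have hex := exact₂ (αMV f O' W) (βMV f O' W) (wMV f O' W) hαβ M 0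
    haveI := mono_rα_zero (αMV f O' W) (βMV f O' W) (wMV f O' W) hαβ M
    have hk := hex.fIsKernel
    have e := IsLimit.conePointUniqueUpToIso hk
      (kernelIsKernel ((NatTrans.rightDerived (βMV f O' W) 0).app M))
    exact qc_of_iso e.symm (qc_kernel _ (qc_rightDerived_G₂ f O' W M h1 h2 0) (h3 0))
  | succ k =>
    exact qc_of_exact5 _ _ _ _ _ _ _
      (exact₃ (αMV f O' W) (βMV f O' W) (wMV f O' W) hαβ M k)
      (exact₁ (αMV f O' W) (βMV f O' W) (wMV f O' W) hαβ M k)
      (exact₂ (αMV f O' W) (βMV f O' W) (wMV f O' W) hαβ M (k + 1))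
      (qc_rightDerived_G₂ f O' W M h1 h2 k) (h3 k)
      (qc_rightDerived_G₂ f O' W M h1 h2 (k + 1)) (h3 (k + 1))

end Groth.Agent.LD.QCQS
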