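import Groth.Agent.Lib.Lead.QC.SubExt
import Groth.Agent.Lib.Lead.QC.Local
import Groth.Agent.Lib.Lead.QC.SuppPullback
import Groth.Agent.Lib.Lead.QCQS.Base
universe u
open CategoryTheory Limits AlgebraicGeometry TopologicalSpace Opposite

namespace Groth.Agent.LD.QCQS
open Groth.Agent.LD

variable {X : Scheme.{u}}

/-- sections of the pushforward along `U ↪ X` over opens missing the support vanish. -/
lemma push_section_eq_zero (U : X.Opens) (T : Set X) (F : (↑U : Scheme.{u}).Modules)
    (hs : ∀ x : ↥U, ¬ Subsingleton (F.presheaf.stalk x) → (x : X) ∈ T)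
    (W : X.Opens) (hW : ∀ x ∈ W, x ∉ T)
    (s : Γ((Scheme.Modules.pushforward U.ι).obj F, W)) : s = 0 := by
  change Γ(F, U.ι ⁻¹ᵁ W) at s
  apply QC.section_eq_zero_of_germ F s
  intro x hx
  have hsub : Subsingleton (F.presheaf.stalk x) := by
    by_contra hne
    exact hW _ hx (hs x hne)
  exact Subsingleton.elim _ _

theorem qc_push_of_support (U : X.Opens) (T : Set X) (hT : IsClosed T) (hTU : T ⊆ (U : Set X))
    (F : (↑U : Scheme.{u}).Modules) (hF : F.IsQuasicoherent)
    (hs : ∀ x : ↥U, ¬ Subsingleton (F.presheaf.stalk x) → (x : X) ∈ T) :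
    ((Scheme.Modules.pushforward U.ι).obj F).IsQuasicoherent := by
  let V : X.Opens := ⟨Tᶜ, hT.isOpen_compl⟩
  let Uc : ULift.{u} Bool → X.Opens := fun b => if b.down then U else V
  refine QC.isQuasicoherent_of_isOpenCover _ Uc ?_ ?_
  · rw [IsOpenCover, eq_top_iff]
    intro x _
    by_cases hx : x ∈ T
    · exact Opens.mem_iSup.mpr ⟨⟨true⟩, hTU hx⟩
    · exact Opens.mem_iSup.mpr ⟨⟨false⟩, hx⟩
  · rintro ⟨b⟩
    cases b
    · change (((Scheme.Modules.pushforward U.ι).obj F).restrict V.ι).IsQuasicoherent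
      refine qc_of_isZero ?_ (QC.unitMod _) inferInstance
      apply QC.isZero_of_forall_sections
      intro W' s
      exact push_section_eq_zero U T F hs (V.ι ''ᵁ W') (by
        rintro _ ⟨y, _, rfl⟩
        exact y.2) s
    · change (((Scheme.Modules.pushforward U.ι).obj F).restrict U.ι).IsQuasicoherent
      exact QC.qc_of_iso ((Scheme.Modules.restrictFunctorAdjCounitIso U.ι).app F).symm hF

theorem ft_push_of_support (U : X.Opens) (T : Set X) (hT : IsClosed T) (hTU : T ⊆ (U : Set X))
    (F : (↑U : Scheme.{u}).Modules) (hF : F.IsQuasicoherent) (hft : F.IsFiniteType)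
    (hs : ∀ x : ↥U, ¬ Subsingleton (F.presheaf.stalk x) → (x : X) ∈ T) :
    ((Scheme.Modules.pushforward U.ι).obj F).IsFiniteType := by
  haveI hqc := qc_push_of_support U T hT hTU F hF hs
  apply QC.isFiniteType_of_finite_sections
  intro x
  by_cases hx : x ∈ U
  · obtain ⟨W, hW, hxW, hWU⟩ := exists_isAffineOpen_mem_and_subset (x := x) (U := U) hx
    refine ⟨W, hW, hxW, ?_⟩
    apply QC.finite_sections_of_restrict_isFiniteType _ U ?_ hW hWU
    have e := ((Scheme.Modules.restrictFunctorAdjCounitIso U.ι).app F).symm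
    exact @QC.isFiniteType_of_iso _ _ _ e hF hft
  · have hxT : x ∉ T := fun h => hx (hTU h)
    obtain ⟨W, hW, hxW, hWV⟩ := exists_isAffineOpen_mem_and_subset (x := x)
      (U := (⟨Tᶜ, hT.isOpen_compl⟩ : X.Opens)) hxT
    refine ⟨W, hW, hxW, ?_⟩
    haveI : Subsingleton Γ((Scheme.Modules.pushforward U.ι).obj F, W) :=
      ⟨fun a b => (push_section_eq_zero U T F hs W (fun y hy => hWV hy) a).trans
        (push_section_eq_zero U T F hs W (fun y hy => hWV hy) b).symm⟩
    infer_instance

end Groth.Agent.LD.QCQS
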