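import Mathlib

/-! # The functors `G_O = (O.ι ≫ f)_* ∘ (-)|_O` and restriction maps between them. -/

universe u
open CategoryTheory Limits AlgebraicGeometry TopologicalSpace Opposite

namespace Groth.Agent.LD.QCQS

variable {X S : Scheme.{u}} (f : X ⟶ S)

/-- the functor on opens `W ↦ O ∩ f⁻¹ W` (as the image of the preimage in `O`). -/
noncomputable abbrev Fn (O : X.Opens) : S.Opens ⥤ X.Opens :=
  Opens.map (O.ι ≫ f).base ⋙ O.ι.opensFunctor

instance (O : X.Opens) : (Fn f O).IsContinuous (Opens.grothendieckTopology S)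
    (Opens.grothendieckTopology X) :=
  Functor.isContinuous_comp _ _ _ (Opens.grothendieckTopology O.toScheme) _

/-- `G_O M = (O.ι ≫ f)_* (M|_O)`. -/
noncomputable abbrev G (O : X.Opens) : X.Modules ⥤ S.Modules :=
  Scheme.Modules.restrictFunctor O.ι ⋙ Scheme.Modules.pushforward (O.ι ≫ f)

lemma Fn_obj_le {O O' : X.Opens} (h : O' ≤ O) (W : S.Opens) : (Fn f O').obj W ≤ (Fn f O).obj W := by
  rintro _ ⟨x, hx, rfl⟩
  exact ⟨⟨x.1, h x.2⟩, hx, rfl⟩

/-- the inclusion of functors on opens. -/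
noncomputable def FnLE {O O' : X.Opens} (h : O' ≤ O) : Fn f O' ⟶ Fn f O where
  app W := homOfLE (Fn_obj_le f h W)
  naturality _ _ _ := rfl



/-- ring map of `restrictFunctor O.ι`. -/
noncomputable def ψR (O : X.Opens) :
    O.toScheme.ringCatSheaf ⟶ (O.ι.opensFunctor.sheafPushforwardContinuous RingCat.{u}
      (Opens.grothendieckTopology O.toScheme) (Opens.grothendieckTopology X)).obj X.ringCatSheaf :=
  ⟨Functor.whiskerRight ({ app := fun U => (O.ι.appIso U.unop).inv } :
        O.toScheme.presheaf ⟶ O.ι.opensFunctor.op ⋙ X.presheaf) (forget₂ CommRingCat RingCat)⟩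

example (O : X.Opens) : Scheme.Modules.restrictFunctor O.ι = SheafOfModules.pushforward (ψR O) := rfl

/-- ring map for `G f O`. -/
noncomputable def φG (O : X.Opens) :
    S.ringCatSheaf ⟶ ((Fn f O).sheafPushforwardContinuous RingCat.{u}
      (Opens.grothendieckTopology S) (Opens.grothendieckTopology X)).obj X.ringCatSheaf := by
  exact (O.ι ≫ f).toRingCatSheafHom ≫
    ((Opens.map (O.ι ≫ f).base).sheafPushforwardContinuous RingCat.{u}
      (Opens.grothendieckTopology S) (Opens.grothendieckTopology O.toScheme)).map (ψR O)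

example (O : X.Opens) : G f O = SheafOfModules.pushforward (F := Fn f O) (φG f O) := rfl


lemma φG_app (O : X.Opens) (V : S.Opens) (x : Γ(S, V)) :
    ((φG f O).hom.app (op V)).hom x =
      (O.ι.appIso ((O.ι ≫ f) ⁻¹ᵁ V)).inv.hom ((O.ι ≫ f).app V x) := rfl

lemma φG_app' (O : X.Opens) (V : S.Opens) (x : Γ(S, V)) :
    ((φG f O).hom.app (op V)).hom x =
      X.presheaf.map (homOfLE (by
        rintro _ ⟨y, hy, rfl⟩; exact hy : (Fn f O).obj V ≤ f ⁻¹ᵁ V)).op (f.app V x) := by
  rw [φG_app]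
  have h1 : (O.ι ≫ f).app V ≫ (O.ι.appIso ((O.ι ≫ f) ⁻¹ᵁ V)).inv =
      f.app V ≫ X.presheaf.map (homOfLE (by
        rintro _ ⟨y, hy, rfl⟩; exact hy : (Fn f O).obj V ≤ f ⁻¹ᵁ V)).op := by
    show (f.app V ≫ O.ι.app (f ⁻¹ᵁ V)) ≫ (O.ι.appIso (O.ι ⁻¹ᵁ f ⁻¹ᵁ V)).inv = _
    rw [Category.assoc, Scheme.Hom.app_appIso_inv]
    rfl
  exact congr($h1 x)

lemma φG_le {O O' : X.Opens} (h : O' ≤ O) :
    φG f O ≫ (Functor.sheafPushforwardContinuousNatTrans (FnLE f h) RingCat.{u}
      (Opens.grothendieckTopology S) (Opens.grothendieckTopology X)).app X.ringCatSheaf = φG f O' := by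
  apply Sheaf.hom_ext
  apply NatTrans.ext
  funext V
  apply RingCat.hom_ext
  apply RingHom.ext
  intro x
  obtain ⟨V⟩ := V
  show X.presheaf.map ((FnLE f h).app V).op (((φG f O).hom.app (op V)).hom x) =
    ((φG f O').hom.app (op V)).hom x
  rw [φG_app', φG_app', ← CommRingCat.comp_apply, ← Functor.map_comp]
  rfl


/-- the restriction natural transformation `G_O ⟶ G_{O'}` for `O' ≤ O`. -/
noncomputable def resG {O O' : X.Opens} (h : O' ≤ O) : G f O ⟶ G f O' := by
  exact SheafOfModules.pushforwardNatTrans (φG f O) (FnLE f h) ≫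
    (SheafOfModules.pushforwardCongr (φG_le f h)).hom

lemma resG_app_val_app {O O' : X.Opens} (h : O' ≤ O) (M : X.Modules) (V : S.Opens)
    (x : ((G f O).obj M).val.obj (op V)) :
    ((resG f h).app M).val.app (op V) x = M.val.map (homOfLE (Fn_obj_le f h V)).op x := rfl

lemma resG_app_app {O O' : X.Opens} (h : O' ≤ O) (M : X.Modules) (V : S.Opens) :
    ((resG f h).app M).app V = M.presheaf.map (homOfLE (Fn_obj_le f h V)).op := rfl

lemma resG_comp {O O' O'' : X.Opens} (h : O' ≤ O) (h' : O'' ≤ O') :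
    resG f h ≫ resG f h' = resG f (h'.trans h) := by
  ext M V : 3
  rw [NatTrans.comp_app, Scheme.Modules.Hom.comp_app, resG_app_app, resG_app_app, resG_app_app]
  exact (M.presheaf.map_comp _ _).symm

end Groth.Agent.LD.QCQS
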